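import Cfsg.Agent.Lib.Walter.Assemble

/-!
# All Sylow subgroups abelian: heredity

Owner: helper80.
-/

set_option autoImplicit false
set_option linter.style.haveILetI false

universe u v

namespace Cfsg.Agent.Lib.AllAbelian80

open Subgroup

/-- All Sylow subgroups are abelian. -/
def AllAb (G : Type u) [Group G] : Prop :=
  ∀ p : ℕ, p.Prime → ∀ P : Sylow p G, IsMulCommutative ↥(P : Subgroup G)

variable {G : Type u} [Group G]

theorem AllAb.comm (h : AllAb G) {p : ℕ} [Fact p.Prime] {H : Subgroup G} (hH : IsPGroup p H)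
    {a b : G} (ha : a ∈ H) (hb : b ∈ H) : a * b = b * a := by
  obtain ⟨P, hP⟩ := hH.exists_le_sylow
  haveI := h p Fact.out P
  exact setLike_mul_comm (s := (P : Subgroup G)) (hP ha) (hP hb)

theorem AllAb.abelianSylow (h : AllAb G) : Walter.AbelianSylow G := fun S => h 2 Nat.prime_two S

theorem AllAb.subgroup (h : AllAb G) (H : Subgroup G) : AllAb ↥H := fun p hp P => by
  haveI := Fact.mk hp
  exact ⟨⟨fun a b => Subtype.ext (Subtype.ext
    (h.comm (P.2.map H.subtype) (mem_map_of_mem _ a.2) (mem_map_of_mem _ b.2)))⟩⟩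

theorem AllAb.of_surjective {H : Type v} [Group H] [Finite G] (h : AllAb G) (f : G →* H)
    (hf : Function.Surjective f) : AllAb H := fun p hp P => by
  haveI := Fact.mk hp
  obtain ⟨T, rfl⟩ := Sylow.mapSurjective_surjective hf p P
  refine ⟨⟨?_⟩⟩
  rintro ⟨_, a, ha, rfl⟩ ⟨_, b, hb, rfl⟩
  refine Subtype.ext ?_
  show f a * f b = f b * f a
  rw [← map_mul, ← map_mul, h.comm T.2 ha hb]

theorem AllAb.quotient [Finite G] (h : AllAb G) (N : Subgroup G) [N.Normal] : AllAb (G ⧸ N) :=
  h.of_surjective (QuotientGroup.mk' N) (QuotientGroup.mk'_surjective N)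

end Cfsg.Agent.Lib.AllAbelian80
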