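/-
A group of Janko–Ree type of Ree order has the setting of `Ree.Hyp`.
-/
import Cfsg.Agent.Lib.Walter.NoField.Local
import Cfsg.Agent.Lib.AllAbelian80.Ree.Normalizer

set_option autoImplicit false
set_option linter.unusedSectionVars false
set_option linter.style.haveILetI false

universe u

namespace Cfsg.Agent.Lib.AllAbelian80

open Subgroup Cfsg.Agent.Lib.Walter Cfsg.Agent.Lib.Walter.NoField Cfsg.Agent.Lib.Walter66

/-- Ree's order with `C(t) = ⟨t⟩ × PSL(2,q)` has the setting of `Ree.Hyp`. -/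
theorem exists_hyp {G : Type u} [Group G] [Finite G] (jr : IsJR G) {S : Sylow 2 G}
    {t : G} {E : Subgroup G} (C : Ctx S t E E) {F : Type} [Field F] [Fintype F] {m : ℕ} (hm : 1 ≤ m)
    (hF : Fintype.card F = 3 ^ (2 * m + 1))
    (φ : ↥E ≃* Matrix.ProjectiveSpecialLinearGroup (Fin 2) F)
    (hcard : Nat.card G =
      (3 ^ (2 * m + 1)) ^ 3 * ((3 ^ (2 * m + 1)) ^ 3 + 1) * (3 ^ (2 * m + 1) - 1)) :
    ∃ (d : ℕ) (s : G) (U T : Subgroup G), Ree.Hyp G (Fintype.card F) d t s E U T := by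
  haveI : Fact (Nat.Prime 3) := ⟨Nat.prime_three⟩
  haveI : CharP F 3 := by
    obtain ⟨p, hp⟩ := CharP.exists F
    obtain ⟨k, hpp, hk⟩ := FiniteField.card F p
    have h : p ∣ 3 ^ (2 * m + 1) := hF ▸ hk ▸ dvd_pow_self p k.pos.ne'
    rw [← (Nat.prime_dvd_prime_iff_eq hpp Nat.prime_three).1 (hpp.dvd_of_dvd_pow h)]
    exact hp
  have h3 : 3 ^ (2 * m + 1) = 3 * 9 ^ m := by rw [pow_succ', pow_mul]; norm_num
  have h9 : (9 ^ m) % 4 = 1 := by rw [Nat.pow_mod]; norm_num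
  have h9' : 9 ≤ 9 ^ m := Nat.le_self_pow (by omega) 9
  obtain ⟨d, hd⟩ : ∃ d, Fintype.card F = 2 * d + 1 := ⟨(Fintype.card F - 1) / 2, by omega⟩
  have hdodd : d % 2 = 1 := by omega
  obtain ⟨U, T, s, M⟩ := exists_model hd hdodd
  let f : Matrix.ProjectiveSpecialLinearGroup (Fin 2) F →* G := E.subtype.comp φ.symm.toMonoidHom
  have hfi : Function.Injective f := fun a b h => φ.symm.injective (Subtype.ext h)
  have hfE : ∀ e : G, e ∈ E → ∃ a, f a = e := fun e he =>
    ⟨φ ⟨e, he⟩, congrArg Subtype.val (φ.symm_apply_apply ⟨e, he⟩)⟩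
  have hEf : ∀ a, f a ∈ E := fun a => (φ.symm a).2
  refine ⟨d, f s, U.map f, T.map f, ?_⟩
  constructor
  case pow3 => exact ⟨_, hF⟩
  case q_eq => exact hd
  case d_odd => exact hdodd
  case d_big => omega
  case card => rw [hF]; exact hcard
  case sylow2 => exact fun Q => (jr.elementary Q).1
  case normT =>
    rintro _ ⟨a, ha, rfl⟩ ha1 e he hc
    obtain ⟨c, rfl⟩ := hfE e he
    rw [← map_inv, ← map_mul, ← map_mul] at hc
    obtain ⟨b, hb, hbe⟩ := hc
    rcases M.normT a ha (fun h => ha1 (by rw [h, map_one])) c (hfi hbe ▸ hb) with h | h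
    · exact Or.inl ⟨c, h, rfl⟩
    · exact Or.inr ⟨s * c, h, map_mul _ _ _⟩
  case conj => exact fun a ha => jr.conj t a C.ord ha
  case ht => exact C.ord
  case tE => exact C.conf.not_mem
  case comm => exact C.mem_cent
  case cent =>
    intro g hg
    obtain ⟨e, he, hge⟩ := C.conf.decomp g hg
    rcases hge with rfl | rfl
    · exact Or.inl he
    · refine Or.inr ?_
      rwa [← mul_assoc, sq_of_ord C.ord, one_mul]
  case UE => rintro _ ⟨a, -, rfl⟩; exact hEf a
  case TE => rintro _ ⟨a, -, rfl⟩; exact hEf a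
  case sE => exact hEf s
  case cardE => rw [Nat.card_congr φ.toEquiv]; exact M.card
  case cardU => rw [card_map_of_injective hfi]; exact M.cardU
  case cube => rintro _ ⟨a, ha, rfl⟩; rw [← map_pow, M.cube a ha, map_one]
  case commU => rintro _ ⟨a, ha, rfl⟩ _ ⟨b, hb, rfl⟩; rw [← map_mul, ← map_mul, M.commU a ha b hb]
  case cardT => rw [card_map_of_injective hfi]; exact M.cardT
  case commT => rintro _ ⟨a, ha, rfl⟩ _ ⟨b, hb, rfl⟩; rw [← map_mul, ← map_mul, M.commT a ha b hb]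
  case norm =>
    rintro _ ⟨a, ha, rfl⟩ _ ⟨b, hb, rfl⟩
    exact ⟨a * b * a⁻¹, M.norm a ha b hb, by simp only [map_mul, map_inv]⟩
  case sq => rw [← map_mul, M.sq, map_one]
  case inv => rintro _ ⟨a, ha, rfl⟩; rw [← map_inv, ← map_mul, ← map_mul, M.inv a ha, map_inv]
  case ti =>
    rintro _ ⟨a, ha, rfl⟩ h
    rw [← map_inv, ← map_mul, ← map_mul] at h
    obtain ⟨b, hb, hbe⟩ := h
    rw [M.ti a ha (hfi hbe ▸ hb), map_one]
  case centU =>
    rintro _ ⟨a, ha, rfl⟩ ha1 e he hc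
    obtain ⟨c, rfl⟩ := hfE e he
    exact ⟨c, M.centU a ha (fun h => ha1 (by rw [h, map_one])) c
      (hfi (by rw [map_mul, map_mul]; exact hc)), rfl⟩
  case centT =>
    rintro _ ⟨a, ha, rfl⟩ ha1 e he hc
    obtain ⟨c, rfl⟩ := hfE e he
    exact ⟨c, M.centT a ha (fun h => ha1 (by rw [h, map_one])) c
      (hfi (by rw [map_mul, map_mul]; exact hc)), rfl⟩
  case noRev =>
    rintro _ ⟨a, ha, rfl⟩ e he hc
    obtain ⟨c, rfl⟩ := hfE e he
    rw [M.noRev a ha c (hfi (by rw [map_mul, map_mul, map_inv, map_inv]; exact hc)), map_one]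

end Cfsg.Agent.Lib.AllAbelian80
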