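import Cfsg.Agent.Lib.AllAbelian80.Field.Main
import Cfsg.Agent.Lib.AllAbelian80.Ree.Contra
import Cfsg.Agent.Lib.AllAbelian80.HypOfCtx
import Cfsg.Agent.S1644

/-!
# Simple groups all of whose Sylow subgroups are abelian

A group of Janko–Ree type with all Sylow subgroups abelian is `J₁`: there is no field automorphism in the
centraliser of an involution, the order theorem leaves Ree's order, excluded by its Sylow 3-subgroup, and
`C(u) = Z₂ × A₅`.

Owner: helper80.
-/

set_option autoImplicit false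
set_option linter.unusedSectionVars false
set_option linter.style.haveILetI false

universe u

namespace Cfsg.Agent.Lib.AllAbelian80

open Subgroup Cfsg.Agent.Lib.Walter Cfsg.Agent.Lib.Walter.NoField Cfsg.Agent.Lib.Walter66

/-- Ree's order with `C(t) = ⟨t⟩ × PSL(2,q)` is excluded. -/
theorem false_of_ree {G : Type u} [Group G] [Finite G] (hall : AllAb G) (jr : IsJR G) {S : Sylow 2 G}
    {t : G} {E : Subgroup G} (C : Ctx S t E E) {F : Type} [Field F] [Fintype F] {m : ℕ} (hm : 1 ≤ m)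
    (hF : Fintype.card F = 3 ^ (2 * m + 1))
    (φ : ↥E ≃* Matrix.ProjectiveSpecialLinearGroup (Fin 2) F)
    (hcard : Nat.card G =
      (3 ^ (2 * m + 1)) ^ 3 * ((3 ^ (2 * m + 1)) ^ 3 + 1) * (3 ^ (2 * m + 1) - 1)) : False := by
  haveI := jr.simple
  obtain ⟨d, s, U, T, h⟩ := exists_hyp jr C hm hF φ hcard
  exact Ree.Hyp.absurd_of_simple h (fun Q => hall 3 Nat.prime_three Q)

/-- A group of Janko–Ree type with all Sylow subgroups abelian is `J₁`. -/
theorem isoJ1_of_jr (hK : PropKnown.{u}) (hO : PropOrder.{u}) :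
    ∀ (G : Type u) [Group G] [Finite G], IsJR G → AllAb G → Cfsg.Spor.IsoJ1 G := by
  suffices ∀ (n : ℕ) (G : Type u) [Group G] [Finite G], Nat.card G = n → IsJR G → AllAb G →
      Cfsg.Spor.IsoJ1 G from fun G _ _ hj ha => this _ G rfl hj ha
  intro n
  induction n using Nat.strong_induction_on with
  | _ n ih =>
    intro G _ _ hn jr hall
    haveI : Fact (Nat.Prime 2) := ⟨Nat.prime_two⟩
    haveI := jr.simple
    obtain ⟨S⟩ : Nonempty (Sylow 2 G) := inferInstance
    have h2 : 2 ∣ Nat.card (S : Subgroup G) := by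
      rw [jr.card_sylow S]; norm_num
    obtain ⟨⟨t, htS⟩, ht'⟩ := exists_prime_orderOf_dvd_card' 2 h2
    have ht : orderOf t = 2 := by rwa [← Subgroup.orderOf_mk t htS]
    obtain ⟨E, E₀, hE⟩ := jr.centralizer t ht
    have C₀ : Ctx S t E E₀ := ⟨jr, ht, htS, hE⟩
    have hEE : E = E₀ := eq_of_allAb hK hall C₀ fun H _ _ hlt hj ha =>
      ih _ (hn ▸ hlt) H rfl hj ha
    subst hEE
    obtain ⟨F, hFi, hFf, hq, h5, ⟨φ⟩⟩ := hE.2.2.2.2.1
    obtain ⟨d⟩ := prod_equiv ht hE.1
    let e := d.trans ((MulEquiv.refl _).prodCongr φ)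
    rcases hO G (fun P a b => by haveI := hall 2 Nat.prime_two P; exact mul_comm' a b) F (by omega) t
        ht ⟨e⟩ with ⟨m, hm, hF, hc⟩ | ⟨hF, -⟩
    · exact (false_of_ree hall jr C₀ hm hF φ hc).elim
    · obtain ⟨e5⟩ := Linear.SmallIso.nonempty_psl_two_five (F := F) (by omega)
      exact Cfsg.Agent.S1644.result S (hall 2 Nat.prime_two S) (jr.card_sylow S) t ht
        (e.trans ((MulEquiv.refl _).prodCongr e5))

/-- The statement of S2554. -/
theorem row2554 (hK : PropKnown.{u}) (hO : PropOrder.{u}) {G : Type u} [Group G] [Finite G]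
    [IsSimpleGroup G] (hna : ¬ IsMulCommutative G) (hall : AllAb G) :
    Cfsg.Spor.IsoJ1 G ∨
      ∃ (F : Type) (_ : Field F) (_ : Fintype F), 3 < Fintype.card F ∧
        (Fintype.card F % 8 = 0 ∨ Fintype.card F % 8 = 3 ∨ Fintype.card F % 8 = 5) ∧
        Nonempty (G ≃* Matrix.ProjectiveSpecialLinearGroup (Fin 2) F) := by
  rcases hK G inferInstance hna hall.abelianSylow with
    ⟨n, F, hFi, hFf, hn, hF, he⟩ | ⟨F, hFi, hFf, hq, h5, he⟩ | hJ
  · have h8 : 8 ∣ Fintype.card F := hF ▸ (show 8 = 2 ^ 3 by norm_num) ▸ pow_dvd_pow 2 hn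
    have hpos : 0 < Fintype.card F := Fintype.card_pos
    exact Or.inr ⟨F, hFi, hFf, by omega, Or.inl (by omega), he⟩
  · exact Or.inr ⟨F, hFi, hFf, by omega, Or.inr hq, he⟩
  · exact Or.inl (isoJ1_of_jr hK hO G hJ hall)

end Cfsg.Agent.Lib.AllAbelian80
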