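import Cfsg.Agent.Lib.RankOne.Involution
import Cfsg.Agent.Lib.Coprime.Glauberman
import Mathlib.GroupTheory.Transfer
import Mathlib.GroupTheory.SpecificGroups.Cyclic

/-!
# Small general lemmas for groups with abelian Sylow subgroups

Owner: helper80.
-/

set_option autoImplicit false
set_option linter.unusedSectionVars false
set_option linter.style.haveILetI false

namespace Cfsg.Agent.Lib.AllAbelian80

open Subgroup

variable {G : Type*} [Group G] [Finite G]

/-- If all `2`-subgroups of `C` containing the involution `t` centralise it and `|C ⊓ C(t)|` is twice an odd number,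
then the elements of odd order of `C` form a subgroup of index two. -/
theorem exists_oddPart {C : Subgroup G} {t : G} (htC : t ∈ C) (ht : orderOf t = 2)
    (hab : ∀ Q : Sylow 2 G, IsMulCommutative (Q : Subgroup G))
    (h4 : ¬ 4 ∣ Nat.card (C ⊓ centralizer ({t} : Set G) : Subgroup G)) :
    ∃ K : Subgroup G, K ≤ C ∧ Odd (Nat.card K) ∧ (∀ g, g ∈ K ↔ g ∈ C ∧ Odd (orderOf g)) ∧
      Nat.card C = 2 * Nat.card K := by
  haveI : Fact (Nat.Prime 2) := ⟨Nat.prime_two⟩
  have hz : IsPGroup 2 ↥(zpowers (⟨t, htC⟩ : C)) :=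
    IsPGroup.of_card (n := 1) (by rw [Nat.card_zpowers, ← Subgroup.orderOf_coe, ht, pow_one])
  obtain ⟨Q, hQ⟩ := hz.exists_le_sylow
  have htQ : (⟨t, htC⟩ : C) ∈ (Q : Subgroup C) := hQ (mem_zpowers _)
  obtain ⟨R, hR⟩ := (Q.2.map C.subtype).exists_le_sylow
  haveI := hab R
  have hle : (Q : Subgroup C).map C.subtype ≤ C ⊓ centralizer ({t} : Set G) := by
    rintro _ ⟨x, hx, rfl⟩
    refine mem_inf.2 ⟨x.2, mem_centralizer_singleton_iff.2 ?_⟩
    exact setLike_mul_comm (s := (R : Subgroup G)) (hR (mem_map_of_mem _ hx))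
      (hR (mem_map_of_mem C.subtype htQ))
  have hcard : Nat.card (Q : Subgroup C) = 2 := by
    obtain ⟨k, hk⟩ := IsPGroup.iff_card.1 Q.2
    have hd : 2 ^ k ∣ Nat.card (C ⊓ centralizer ({t} : Set G) : Subgroup G) := by
      rw [← hk, ← card_map_of_injective C.subtype_injective]
      exact card_dvd_of_le hle
    have h2 : 2 ∣ 2 ^ k := by
      have := Subgroup.orderOf_dvd_natCard _ htQ
      rwa [← Subgroup.orderOf_coe, ht, hk] at this
    rcases k with _ | _ | k
    · norm_num at h2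
    · simpa using hk
    · exact absurd (dvd_trans ⟨2 ^ k, by ring⟩ hd) h4
  haveI : IsCyclic (Q : Subgroup C) := isCyclic_of_prime_card hcard
  have hmin : (Nat.card C).minFac = 2 :=
    (Nat.minFac_eq_two_iff _).2 (hcard ▸ card_subgroup_dvd_card (Q : Subgroup C))
  have hN := MonoidHom.ker_transferSylow_isComplement' Q
    ((inferInstance : IsCyclic (Q : Subgroup C)).normalizer_le_centralizer hmin)
  set f := MonoidHom.transferSylow Q
    ((inferInstance : IsCyclic (Q : Subgroup C)).normalizer_le_centralizer hmin)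
  have hodd : Odd (Nat.card f.ker) := by
    have h := Q.not_dvd_index
    rw [hN.index_eq_card] at h
    exact Nat.odd_iff.2 (by omega)
  refine ⟨f.ker.map C.subtype, map_subtype_le _, by rwa [card_map_of_injective C.subtype_injective],
    fun g => ⟨?_, fun ⟨hg, hgo⟩ => ⟨⟨g, hg⟩, ?_, rfl⟩⟩, ?_⟩
  · rintro ⟨x, hx, rfl⟩
    refine ⟨x.2, ?_⟩
    rw [C.coe_subtype, Subgroup.orderOf_coe]
    exact hodd.of_dvd_nat (Subgroup.orderOf_dvd_natCard _ hx)
  · refine MonoidHom.mem_ker.2 (orderOf_eq_one_iff.1 (Nat.eq_one_of_dvd_coprimes ?_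
      ((_root_.orderOf_dvd_natCard _).trans hcard.dvd) (orderOf_map_dvd f ⟨g, hg⟩)))
    rw [← Subgroup.orderOf_coe]
    exact Nat.coprime_two_left.2 hgo
  · rw [card_map_of_injective C.subtype_injective, mul_comm]
    have := hN.card_mul_card
    rw [hcard] at this
    exact this.symm

omit [Finite G] in
theorem le_normalizer_of_conj_mem {A H : Subgroup G} (hh : ∀ g ∈ A, ∀ x ∈ H, g * x * g⁻¹ ∈ H) :
    A ≤ normalizer (H : Set G) := fun g hg => mem_normalizer_iff.2 fun x =>
  ⟨hh g hg x, fun hx => by simpa [mul_assoc] using hh g⁻¹ (inv_mem hg) _ hx⟩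

/-- If `t` has no fixed point on `K`, it inverts `K`. -/
theorem inverts_of_fpf {K : Subgroup G} (hodd : Odd (Nat.card K)) {t : G} (ht : t * t = 1)
    (hn : ∀ x ∈ K, t * x * t⁻¹ ∈ K) (hfix : ∀ x ∈ K, t * x * t⁻¹ = x → x = 1) {x : G} (hx : x ∈ K) :
    t * x * t⁻¹ = x⁻¹ := by
  obtain ⟨c, hc, i, hi, hct, hit, rfl⟩ := RankOne.Involution.exists_decomp hodd ht hn hx
  rw [hfix c hc hct, one_mul, hit]

end Cfsg.Agent.Lib.AllAbelian80
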